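import Mathlib

/-! The semisimple part of a matrix lies in the closure of its conjugation orbit. -/

set_option autoImplicit false

universe u

open Module Polynomial

namespace Groth.Agent.ConjClosureLib

variable {k : Type u} [Field k]

section Grading

variable {V : Type u} [AddCommGroup V] [Module k V]

/-- Nested projections onto the kernels of the powers of a nilpotent map, commuting with a semisimple one. -/
theorem exists_projections (S N : Module.End k V) (hS : S.IsSemisimple) (hc : Commute S N) (m : ℕ)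
    (hm : N ^ m = 0) :
    ∃ d : ℕ → Module.End k V, d 0 = 0 ∧ d m = 1 ∧ (∀ i ≤ m, Commute S (d i)) ∧
      (∀ i ≤ m, ∀ x, d i x ∈ LinearMap.ker (N ^ i)) ∧ (∀ i ≤ m, ∀ x ∈ LinearMap.ker (N ^ i), d i x = x) ∧
      (∀ i j, i ≤ j → j ≤ m → d i * d j = d i) := by
  classical
  have hinv : ∀ i, LinearMap.ker (N ^ i) ∈ S.invtSubmodule := fun i => by
    rw [Module.End.mem_invtSubmodule]
    intro x hx
    have h1 : (N ^ i * S) x = (S * N ^ i) x := by rw [(hc.pow_right i).eq]
    show (N ^ i) (S x) = 0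
    rw [← Module.End.mul_apply, h1, Module.End.mul_apply, LinearMap.mem_ker.1 hx, map_zero]
  have hex : ∀ i, ∃ e : Module.End k V, Commute S e ∧ (∀ x, e x ∈ LinearMap.ker (N ^ i)) ∧
      ∀ x ∈ LinearMap.ker (N ^ i), e x = x := fun i => by
    obtain ⟨q, hq, hpq⟩ := Module.End.isSemisimple_iff.1 hS _ (hinv i)
    let p := LinearMap.ker (N ^ i)
    refine ⟨p.projection q hpq, LinearMap.ext fun x => ?_, fun x => ?_,
      fun x hx => Submodule.projection_apply_of_mem_left hpq hx⟩
    · have hx := Submodule.projection_add_projection_eq_self hpq x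
      have hp : S (p.projection q hpq x) ∈ p := (Module.End.mem_invtSubmodule _).1 (hinv i) (Submodule.projection_apply_mem hpq x)
      have hq' : S (q.projection p hpq.symm x) ∈ q := (Module.End.mem_invtSubmodule _).1 hq (Submodule.projection_apply_mem hpq.symm x)
      show S (p.projection q hpq x) = p.projection q hpq (S x)
      conv_rhs => rw [← hx, map_add, map_add]
      have h1 : p.projection q hpq (S (p.projection q hpq x)) = S (p.projection q hpq x) := by
        exact Submodule.projection_apply_of_mem_left hpq hp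
      have h2 : p.projection q hpq (S (q.projection p hpq.symm x)) = 0 := by
        exact Submodule.projection_apply_of_mem_right hpq hq'
      rw [h1, h2, add_zero]
    · exact Submodule.projection_apply_mem hpq x
  choose e he1 he2 he3 using hex
  let F : ℕ → ℕ → Module.End k V := fun s => Nat.rec (fun _ => 1) (fun _ f i => e i * f (i + 1)) s
  have hF0 : ∀ i, F 0 i = 1 := fun _ => rfl
  have hFs : ∀ s i, F (s + 1) i = e i * F s (i + 1) := fun _ _ => rfl
  have hmono : ∀ i j, i ≤ j → LinearMap.ker (N ^ i) ≤ LinearMap.ker (N ^ j) := fun i j hij x hx => by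
    obtain ⟨c, rfl⟩ := Nat.exists_eq_add_of_le hij
    rw [LinearMap.mem_ker, add_comm, pow_add, Module.End.mul_apply, LinearMap.mem_ker.1 hx, map_zero]
  have key : ∀ s i, i + s = m → Commute S (F s i) ∧ (∀ x, F s i x ∈ LinearMap.ker (N ^ i)) ∧
      ∀ x ∈ LinearMap.ker (N ^ i), F s i x = x := by
    intro s
    induction s with
    | zero =>
      intro i hi
      exact ⟨Commute.one_right S, fun x => by
        rw [add_zero] at hi
        rw [hi, hm, LinearMap.mem_ker]; rfl, fun x _ => rfl⟩
    | succ s ih =>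
      intro i hi
      obtain ⟨h1, h2, h3⟩ := ih (i + 1) (by omega)
      refine ⟨hFs s i ▸ (he1 i).mul_right h1, fun x => by rw [hFs]; exact he2 i _, fun x hx => ?_⟩
      rw [hFs, Module.End.mul_apply, h3 x (hmono i _ (Nat.le_succ i) hx), he3 i x hx]
  refine ⟨fun i => F (m - i) i, ?_, by simp [hF0], fun i hi => (key _ i (by omega)).1,
    fun i hi => (key _ i (by omega)).2.1, fun i hi => (key _ i (by omega)).2.2, ?_⟩
  · refine LinearMap.ext fun x => ?_
    have := (key (m - 0) 0 (by omega)).2.1 x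
    simpa using this
  · intro i j hij hj
    show F (m - i) i * F (m - j) j = F (m - i) i
    obtain ⟨c, rfl⟩ := Nat.exists_eq_add_of_le hij
    clear hij
    induction c generalizing i with
    | zero =>
      refine LinearMap.ext fun x => ?_
      exact (key _ i (by omega)).2.2 _ ((key _ i (by omega)).2.1 x)
    | succ c ih =>
      have h := ih (i + 1) (by omega)
      rw [show i + 1 + c = i + (c + 1) by omega] at h
      rw [show m - i = (m - (i + 1)) + 1 by omega, hFs, mul_assoc, h]

/-- A semisimple plus a commuting nilpotent map deforms to its semisimple part within its conjugacy class. -/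
theorem exists_path (S N : Module.End k V) (hS : S.IsSemisimple) (hc : Commute S N) (hN : IsNilpotent N) :
    ∃ (s : Finset ℕ) (E : ℕ → Module.End k V), 0 ∉ s ∧ ∀ t : k, t ≠ 0 → ∃ T : (Module.End k V)ˣ,
      (T : Module.End k V) * (S + N) * (↑T⁻¹ : Module.End k V) = S + ∑ i ∈ s, t ^ i • E i := by
  classical
  obtain ⟨m, hm⟩ := hN
  obtain ⟨d, hd0, hdm, hdS, hdker, hdfix, hdd⟩ := exists_projections S N hS hc m hm
  let π : ℕ → Module.End k V := fun i => d (i + 1) - d i
  have hdd' : ∀ i j, i ≤ j → j ≤ m → d j * d i = d i := fun i j hij hj => LinearMap.ext fun x => by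
    refine hdfix j hj _ ?_
    obtain ⟨c, rfl⟩ := Nat.exists_eq_add_of_le hij
    rw [LinearMap.mem_ker, add_comm, pow_add, Module.End.mul_apply,
      LinearMap.mem_ker.1 (hdker i (by omega) x), map_zero]
  have hd_mul : ∀ i j, i ≤ m → j ≤ m → d i * d j = d (min i j) := fun i j hi hj => by
    rcases le_total i j with h | h
    · rw [min_eq_left h, hdd i j h hj]
    · rw [min_eq_right h, hdd' j i h hi]
  have hπ_mul : ∀ i j, i < m → j < m → π i * π j = if i = j then π i else 0 := fun i j hi hj => by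
    simp only [π, sub_mul, mul_sub, hd_mul _ _ (by omega : i + 1 ≤ m) (by omega : j + 1 ≤ m),
      hd_mul _ _ (by omega : i + 1 ≤ m) (by omega : j ≤ m), hd_mul _ _ (by omega : i ≤ m) (by omega : j + 1 ≤ m),
      hd_mul _ _ (by omega : i ≤ m) (by omega : j ≤ m)]
    rcases lt_trichotomy i j with h | rfl | h
    · rw [if_neg h.ne, min_eq_left (by omega), min_eq_left (by omega), min_eq_left (by omega), min_eq_left (by omega)]
      abel
    · rw [if_pos rfl, min_self, min_self, min_eq_left (by omega), min_eq_right (by omega)]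
      abel
    · rw [if_neg h.ne', min_eq_right (by omega), min_eq_right (by omega), min_eq_right (by omega), min_eq_right (by omega)]
      abel
  have hπ_sum : ∑ i ∈ Finset.range m, π i = 1 := by
    rw [Finset.sum_range_sub d m, hdm, hd0, sub_zero]
  have hπN : ∀ i j, i < m → j ≤ i → π i * N * π j = 0 := fun i j hi hji => LinearMap.ext fun x => by
    have h1 : π j x ∈ LinearMap.ker (N ^ (j + 1)) := by
      refine Submodule.sub_mem _ (hdker (j + 1) (by omega) x) ?_
      rw [LinearMap.mem_ker, pow_succ', Module.End.mul_apply, LinearMap.mem_ker.1 (hdker j (by omega) x), map_zero]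
    have h2 : N (π j x) ∈ LinearMap.ker (N ^ i) := by
      obtain ⟨c, rfl⟩ := Nat.exists_eq_add_of_le hji
      rw [LinearMap.mem_ker, add_comm, pow_add, Module.End.mul_apply]
      have : (N ^ j) (N (π j x)) = 0 := by
        rw [← Module.End.mul_apply, ← pow_succ]; exact LinearMap.mem_ker.1 h1
      rw [this, map_zero]
    have h3 : (N ^ (i + 1)) (N (π j x)) = 0 := by
      rw [pow_succ', Module.End.mul_apply, LinearMap.mem_ker.1 h2, map_zero]
    show d (i + 1) (N (π j x)) - d i (N (π j x)) = 0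
    rw [hdfix i hi.le _ h2, hdfix (i + 1) hi _ h3, sub_self]
  refine ⟨Finset.Icc 1 m, fun l => ∑ i ∈ Finset.range m, if i + l < m then π i * N * π (i + l) else 0,
    by simp, fun t ht => ?_⟩
  let T : k → Module.End k V := fun c => ∑ i ∈ Finset.range m, c ^ i • π i
  have hT : ∀ a b : k, a * b = 1 → T a * T b = 1 := fun a b hab => by
    simp only [T, Finset.sum_mul, Finset.mul_sum]
    rw [← hπ_sum]
    refine Finset.sum_congr rfl fun i hi => ?_
    rw [Finset.sum_eq_single i (fun j hj hne => by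
      rw [smul_mul_smul_comm, hπ_mul _ _ (Finset.mem_range.1 hj) (Finset.mem_range.1 hi), if_neg hne, smul_zero])
      (fun h => (h hi).elim)]
    rw [smul_mul_smul_comm, hπ_mul _ _ (Finset.mem_range.1 hi) (Finset.mem_range.1 hi), if_pos rfl, ← mul_pow,
      hab, one_pow, one_smul]
  refine ⟨⟨T t⁻¹, T t, hT _ _ (inv_mul_cancel₀ ht), hT _ _ (mul_inv_cancel₀ ht)⟩, ?_⟩
  show T t⁻¹ * (S + N) * T t = _
  have hST : Commute S (T t⁻¹) := Commute.sum_right _ _ _ fun i hi => by
    have := Finset.mem_range.1 hi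
    exact ((hdS (i + 1) (by omega)).sub_right (hdS i (by omega))).smul_right _
  rw [mul_add, add_mul, ← hST.eq, mul_assoc, hT _ _ (inv_mul_cancel₀ ht), mul_one]
  congr 1
  simp only [T, Finset.sum_mul, Finset.mul_sum, Finset.smul_sum, smul_ite, smul_zero]
  rw [Finset.sum_comm]
  conv_rhs => rw [Finset.sum_comm]
  refine Finset.sum_congr rfl fun i hi => ?_
  have hi' := Finset.mem_range.1 hi
  rw [← Finset.sum_filter]
  have hrw : ∀ j ∈ Finset.range m, ((t⁻¹) ^ i • π i) * N * (t ^ j • π j) =
      if i < j then t ^ (j - i) • (π i * N * π j) else 0 := fun j _ => by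
    rw [smul_mul_assoc, smul_mul_assoc, mul_smul_comm, smul_smul]
    split_ifs with h
    · rw [show (t⁻¹) ^ i * t ^ j = t ^ (j - i) by
        rw [inv_pow, inv_mul_eq_iff_eq_mul₀ (pow_ne_zero _ ht), ← pow_add, Nat.add_sub_cancel' h.le]]
    · rw [hπN i j hi' (not_lt.1 h), smul_zero]
  rw [Finset.sum_congr rfl hrw, ← Finset.sum_filter]
  refine Finset.sum_nbij' (fun j => j - i) (fun l => i + l) ?_ ?_ ?_ ?_ ?_
  · intro j hj
    simp only [Finset.mem_filter, Finset.mem_range, Finset.mem_Icc] at hj ⊢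
    omega
  · intro l hl
    simp only [Finset.mem_filter, Finset.mem_range, Finset.mem_Icc] at hl ⊢
    omega
  · intro j hj
    simp only [Finset.mem_filter, Finset.mem_range] at hj
    omega
  · intro l hl
    omega
  · intro j hj
    simp only [Finset.mem_filter, Finset.mem_range] at hj
    rw [Nat.add_sub_cancel' hj.2.le]

end Grading

section Closure

variable {n : ℕ}

/-- The polynomial functions vanishing on the conjugation orbit. -/
def InClosure (B C : Matrix (Fin n) (Fin n) k) : Prop :=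
  ∀ F : MvPolynomial (Fin n × Fin n) k,
    (∀ A : Matrix (Fin n) (Fin n) k, IsUnit A.det → MvPolynomial.eval (fun p => (A * B * A⁻¹) p.1 p.2) F = 0) →
      MvPolynomial.eval (fun p => C p.1 p.2) F = 0

theorem inClosure_conj [Infinite k] (S N : Matrix (Fin n) (Fin n) k) (hS : Module.End.IsSemisimple (Matrix.toLin' S))
    (hN : IsNilpotent N) (hc : Commute S N) (U : (Matrix (Fin n) (Fin n) k)ˣ) :
    InClosure (S + N) (U.1 * S * U⁻¹.1) := by
  let ψ := Matrix.toLinAlgEquiv' (R := k) (n := Fin n)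
  obtain ⟨s, E, hs, hT⟩ := exists_path (ψ S) (ψ N) hS (hc.map ψ) (hN.map ψ)
  intro F hF
  let M : Matrix (Fin n) (Fin n) k[X] := fun a b =>
    C ((U.1 * S * U⁻¹.1) a b) + ∑ i ∈ s, C ((U.1 * ψ.symm (E i) * U⁻¹.1) a b) * X ^ i
  let P : k[X] := MvPolynomial.aeval (fun p => M p.1 p.2) F
  have hP : ∀ t, P.eval t = MvPolynomial.eval
      (fun p => (U.1 * (S + ∑ i ∈ s, t ^ i • ψ.symm (E i)) * U⁻¹.1) p.1 p.2) F := fun t => by
    show Polynomial.evalRingHom t (MvPolynomial.aeval _ F) = _
    rw [MvPolynomial.aeval_def, MvPolynomial.eval₂_comp_left, ← MvPolynomial.eval₂_id]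
    congr 1
    · ext a; simp
    · funext p
      simp only [M, Function.comp_apply, Polynomial.coe_evalRingHom, Matrix.mul_add, add_mul, Finset.mul_sum, Finset.sum_mul,
        Matrix.add_apply, Matrix.sum_apply, mul_smul_comm, smul_mul_assoc, Matrix.smul_apply, smul_eq_mul,
        Polynomial.eval_add, Polynomial.eval_C, Polynomial.eval_finsetSum, Polynomial.eval_mul,
        Polynomial.eval_pow, Polynomial.eval_X]
      exact congrArg _ (Finset.sum_congr rfl fun i _ => mul_comm _ _)
  have hz : ∀ t : k, t ≠ 0 → P.eval t = 0 := fun t ht => by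
    obtain ⟨T, hT⟩ := hT t ht
    rw [hP]
    let A := U * Units.map ψ.symm.toRingEquiv.toRingHom.toMonoidHom T
    have h1 : A.1 * (S + N) * A⁻¹.1 = U.1 * (S + ∑ i ∈ s, t ^ i • ψ.symm (E i)) * U⁻¹.1 := by
      have h2 := congrArg ψ.symm hT
      simp only [map_mul, map_add, map_sum, map_smul, AlgEquiv.symm_apply_apply] at h2
      rw [← h2]
      simp only [A, mul_inv_rev, Units.val_mul, Units.coe_map, Units.coe_map_inv, MonoidHom.coe_coe,
        RingHom.toMonoidHom_eq_coe, RingEquiv.toRingHom_eq_coe, RingHom.coe_coe, AlgEquiv.coe_ringEquiv]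
      simp only [mul_assoc]
    rw [← h1, Matrix.coe_units_inv]
    exact hF A.1 (Matrix.isUnits_det_units A)
  have hP0 : P = 0 := by
    refine Polynomial.eq_zero_of_infinite_isRoot P ?_
    refine Set.Infinite.mono (s := {t : k | t ≠ 0}) (fun t ht => hz t ht) ?_
    exact (Set.finite_singleton (0 : k)).infinite_compl
  have h0 := hP 0
  rw [hP0, Polynomial.eval_zero, Finset.sum_eq_zero (fun i hi => by
    rw [zero_pow (fun h : i = 0 => hs (h ▸ hi)), zero_smul]), add_zero] at h0
  exact h0.symm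

theorem charpoly_eq_of_inClosure {B C : Matrix (Fin n) (Fin n) k} (h : InClosure B C) :
    C.charpoly = B.charpoly := by
  ext i
  have hev : ∀ D : Matrix (Fin n) (Fin n) k,
      MvPolynomial.eval (fun p => D p.1 p.2) ((Matrix.charpoly.univ k (Fin n)).coeff i) = D.charpoly.coeff i := fun D => by
    have h1 := Matrix.charpoly.univ_map_eval₂Hom (Fin n) (RingHom.id k) (fun p : Fin n × Fin n => D p.1 p.2)
    rw [show D.charpoly = (Matrix.charpoly.univ k (Fin n)).map (MvPolynomial.eval₂Hom (RingHom.id k) fun p => D p.1 p.2)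
      from h1.symm, Polynomial.coeff_map]
    rfl
  have := h ((Matrix.charpoly.univ k (Fin n)).coeff i - MvPolynomial.C (B.charpoly.coeff i)) fun A hA => by
    rw [map_sub, MvPolynomial.eval_C, hev, sub_eq_zero]
    obtain ⟨A, rfl⟩ := (Matrix.isUnit_iff_isUnit_det A).2 hA
    rw [Matrix.charpoly_units_conj]
  rwa [map_sub, MvPolynomial.eval_C, hev, sub_eq_zero] at this

theorem exists_diagonal [IsAlgClosed k] (S : Matrix (Fin n) (Fin n) k) (hS : Module.End.IsSemisimple (Matrix.toLin' S)) :
    ∃ (U : (Matrix (Fin n) (Fin n) k)ˣ) (d : Fin n → k), S = U.1 * Matrix.diagonal d * U⁻¹.1 := by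
  classical
  let f : Module.End k (Fin n → k) := Matrix.toLin' S
  have hint : DirectSum.IsInternal fun μ : k => f.eigenspace μ := by
    refine DirectSum.isInternal_submodule_of_iSupIndep_of_iSup_eq_top f.eigenspaces_iSupIndep ?_
    rw [← Module.End.iSup_maxGenEigenspace_eq_top f]
    exact iSup_congr fun μ => (hS.isFinitelySemisimple.maxGenEigenspace_eq_eigenspace μ).symm
  let b₀ := hint.collectedBasis fun μ => Module.finBasis k (f.eigenspace μ)
  have hb₀ : ∀ a, f (b₀ a) = a.1 • b₀ a := fun a =>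
    Module.End.mem_eigenspace_iff.1 (hint.collectedBasis_mem _ a)
  let e := b₀.indexEquiv (Pi.basisFun k (Fin n))
  let b := b₀.reindex e
  let d : Fin n → k := fun j => (e.symm j).1
  let U : Matrix (Fin n) (Fin n) k := (Pi.basisFun k (Fin n)).toMatrix b
  haveI : Invertible U := (Pi.basisFun k (Fin n)).invertibleToMatrix b
  refine ⟨unitOfInvertible U, d, ?_⟩
  have h1 : S * U = U * Matrix.diagonal d := by
    ext a j
    have h2 := congrFun (hb₀ (e.symm j)) a
    rw [show f (b₀ (e.symm j)) = S.mulVec (b₀ (e.symm j)) from Matrix.toLin'_apply _ _] at h2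
    rw [Matrix.mul_diagonal, Matrix.mul_apply]
    simp only [Matrix.mulVec, dotProduct, Pi.smul_apply, smul_eq_mul] at h2
    simp only [U, b, d, Basis.toMatrix_apply, Pi.basisFun_repr, Basis.reindex_apply]
    rw [h2, mul_comm]
  show S = U * Matrix.diagonal d * ⅟U
  rw [← h1, mul_assoc, mul_invOf_self, mul_one]

theorem conj_of_charpoly_eq [IsAlgClosed k] (S₁ S₂ : Matrix (Fin n) (Fin n) k)
    (h₁ : Module.End.IsSemisimple (Matrix.toLin' S₁)) (h₂ : Module.End.IsSemisimple (Matrix.toLin' S₂)) (h : S₁.charpoly = S₂.charpoly) :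
    ∃ U : (Matrix (Fin n) (Fin n) k)ˣ, U.1 * S₁ * U⁻¹.1 = S₂ := by
  classical
  obtain ⟨P₁, d₁, rfl⟩ := exists_diagonal S₁ h₁
  obtain ⟨P₂, d₂, rfl⟩ := exists_diagonal S₂ h₂
  rw [Matrix.coe_units_inv, Matrix.coe_units_inv, Matrix.charpoly_units_conj, Matrix.charpoly_units_conj, Matrix.charpoly_diagonal, Matrix.charpoly_diagonal] at h
  have hm : Finset.univ.val.map d₁ = Finset.univ.val.map d₂ := by
    have e : ∀ d : Fin n → k, (∏ i, (X - C (d i))).roots = Finset.univ.val.map d := fun d => by
      rw [show (∏ i, (X - C (d i))) = ((Finset.univ.val.map d).map fun a => X - C a).prod from by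
        rw [Multiset.map_map]; rfl, Polynomial.roots_multiset_prod_X_sub_C]
    have := congrArg Polynomial.roots h
    rw [e, e] at this
    exact this
  have hcard : ∀ a, Fintype.card {i // d₁ i = a} = Fintype.card {i // d₂ i = a} := fun a => by
    have := congrArg (Multiset.count a) hm
    simp only [Multiset.count_map] at this
    rw [Fintype.card_subtype, Fintype.card_subtype]
    simpa [Finset.card_def, Finset.filter_val, eq_comm] using this
  let σ : Fin n ≃ Fin n := Equiv.ofPreimageEquiv (f := d₁) (g := d₂) fun a => Fintype.equivOfCardEq (hcard a)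
  have hσ : ∀ i, d₂ (σ i) = d₁ i := Equiv.ofPreimageEquiv_map _
  let Q : Matrix (Fin n) (Fin n) k := σ.symm.toPEquiv.toMatrix
  have hQ : ∀ τ : Fin n ≃ Fin n, (τ.toPEquiv.toMatrix : Matrix (Fin n) (Fin n) k) * τ.symm.toPEquiv.toMatrix = 1 :=
    fun τ => by rw [← PEquiv.toMatrix_trans, ← Equiv.toPEquiv_trans, Equiv.self_trans_symm, Equiv.toPEquiv_refl, PEquiv.toMatrix_refl]
  let QU : (Matrix (Fin n) (Fin n) k)ˣ := ⟨Q, σ.toPEquiv.toMatrix, hQ σ.symm, hQ σ⟩
  refine ⟨P₂ * QU * P₁⁻¹, ?_⟩
  have h3 : Q * Matrix.diagonal d₁ * σ.toPEquiv.toMatrix = Matrix.diagonal d₂ := by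
    rw [show Q * Matrix.diagonal d₁ = _ from PEquiv.toMatrix_toPEquiv_mul σ.symm _, PEquiv.mul_toMatrix_toPEquiv,
      Matrix.submatrix_submatrix]
    ext a b
    simp only [Matrix.submatrix_apply, Matrix.diagonal_apply, Function.comp_apply, id, EmbeddingLike.apply_eq_iff_eq]
    rw [show d₁ (σ.symm a) = d₂ a by rw [← hσ, Equiv.apply_symm_apply]]
  simp only [mul_inv_rev, inv_inv, Units.val_mul, mul_assoc, Units.inv_mul_cancel_left, Units.inv_mul, mul_one]
  rw [← h3]
  simp only [Q, QU, mul_assoc, Units.inv_mk]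

theorem main [IsAlgClosed k] (B₁ S₁ N₁ B₂ S₂ N₂ : Matrix (Fin n) (Fin n) k)
    (hS₁ : Module.End.IsSemisimple (Matrix.toLin' S₁)) (hN₁ : IsNilpotent N₁) (hc₁ : Commute S₁ N₁)
    (hB₁ : B₁ = S₁ + N₁)
    (hS₂ : Module.End.IsSemisimple (Matrix.toLin' S₂)) (hN₂ : IsNilpotent N₂) (hc₂ : Commute S₂ N₂)
    (hB₂ : B₂ = S₂ + N₂) :
    (∃ C, InClosure B₁ C ∧ InClosure B₂ C) ↔
      ∃ A : Matrix (Fin n) (Fin n) k, IsUnit A.det ∧ A * S₁ * A⁻¹ = S₂ := by
  subst hB₁ hB₂
  have k₁ := inClosure_conj S₁ N₁ hS₁ hN₁ hc₁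
  have k₂ := inClosure_conj S₂ N₂ hS₂ hN₂ hc₂ 1
  rw [inv_one, Units.val_one, one_mul, mul_one] at k₂
  constructor
  · rintro ⟨C, h1, h2⟩
    have e₁ := k₁ 1
    rw [inv_one, Units.val_one, one_mul, mul_one] at e₁
    obtain ⟨U, hU⟩ := conj_of_charpoly_eq S₁ S₂ hS₁ hS₂ (by
      rw [charpoly_eq_of_inClosure e₁, charpoly_eq_of_inClosure k₂, ← charpoly_eq_of_inClosure h1,
        charpoly_eq_of_inClosure h2])
    exact ⟨U.1, Matrix.isUnits_det_units U, by rw [← Matrix.coe_units_inv, hU]⟩
  · rintro ⟨A, hA, hA'⟩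
    obtain ⟨A, rfl⟩ := (Matrix.isUnit_iff_isUnit_det A).2 hA
    have := k₁ A
    rw [Matrix.coe_units_inv, hA'] at this
    exact ⟨S₂, this, k₂⟩

end Closure

end Groth.Agent.ConjClosureLib
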